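/-
The stabiliser of `(4, -4, 0^22)` in the Conway group: generators, orbits, perfect subgroups.
-/
import Cfsg.Agent.H51.MDegD
import Cfsg.Agent.H55.OutB0
import Cfsg.Agent.H14.Mathieu
import Cfsg.Agent.H10.SUSimple
import Cfsg.Agent.S1577
import Cfsg.Agent.S0380
import Cfsg.Agent.S0249

set_option autoImplicit false

namespace Cfsg.Agent.H51.BR

open Finset H15 H55 Subgroup MulAction Pointwise
open H14 (bits enc GE)

section
variable {H : Subgroup Co0} (h1 : ∀ k ∈ monoN, k • uu = uu → k ∈ H) (h2 : xi ∈ H)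

def RH (H : Subgroup Co0) (v : leechLattice) : Prop := ∃ g ∈ H, g • uu = uu ∧ g • v = uP

theorem RH.of {v : leechLattice} {g : Co0} (hg : g ∈ H) (hu : g • uu = uu) (h : RH H (g • v)) : RH H v :=
  let ⟨k, a, b, c⟩ := h
  ⟨k * g, mul_mem a hg, by rw [mul_smul, hu, b], by rw [mul_smul, c]⟩

theorem eq_uP {z : leechLattice} (hz : sqNorm (z : Vec) = 32) (z1 : (z : Vec) none = 4) (z2 : (z : Vec) (some 0) = 4) :
    z = uP := Subtype.ext (eq_of_dot (by rw [hz, sqNorm_uP]) (by
  rw [show (uP : Vec) = w4 none (some 0) 1 rfl by decide +kernel, dot_w4, z1, z2]; decide +kernel))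

include h1 h2

theorem boostH (v : leechLattice) {k l : GolayPt} (hk1 : none ≠ k) (hl1 : none ≠ l) (hk2 : some 0 ≠ k)
    (hl2 : some 0 ≠ l) (hkl : k ≠ l) {c d : ℤ} (hc : |(v : Vec) k| = |c|) (hd : |(v : Vec) l| = |d|) :
    ∃ g ∈ H, g • uu = uu ∧
      2 * ((g • v : leechLattice) : Vec) none = (v : Vec) none - (v : Vec) (some 0) - c - d ∧
      2 * ((g • v : leechLattice) : Vec) (some 0) = (v : Vec) (some 0) - (v : Vec) none - c - d ∧
      2 * ((g • v : leechLattice) : Vec) (some 1) = c - (v : Vec) none - (v : Vec) (some 0) - d ∧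
      2 * ((g • v : leechLattice) : Vec) (some 2) = d - (v : Vec) none - (v : Vec) (some 0) - c := by
  obtain ⟨σ, s1, s2, s3, s4⟩ := exists_perm4 (a := none) (b := some 0) (a' := none) (b' := some 0)
    (c' := some 1) (d' := some 2) (by decide) hk1 hl1 hk2 hl2 hkl (by decide) (by decide)
    (by decide) (by decide) (by decide) (by decide)
  obtain ⟨C, hC, p1, p2, p3, p4⟩ := exists_cw_pattern False False ((v : Vec) k ≠ c) ((v : Vec) l ≠ d)
  have key : ∀ (p q : GolayPt) (e : ℤ), (σ : Equiv.Perm GolayPt) p = q → |(v : Vec) p| = |e| →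
      (q ∈ C ↔ (v : Vec) p ≠ e) → ((signC C hC • permC σ • v : leechLattice) : Vec) q = e := fun p q e e1 e2 e3 => by
    rw [signC_apply, ← e1, permC_apply', e1]
    rw [abs_eq_abs] at e2
    split_ifs with h <;> rw [e3] at h <;> omega
  have k1 := key none none _ s1 rfl (by simp [p1])
  have k2 := key (some 0) (some 0) _ s2 rfl (by simp [p2])
  have k3 := key k (some 1) c s3 hc p3
  have k4 := key l (some 2) d s4 hd p4
  have a := permC_smul_uu s1 s2
  have b := signC_smul_uu hC p1.1 p2.1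
  refine ⟨xi * signC C hC * permC σ, mul_mem (mul_mem h2 (h1 _ (signC_mem_monoN _ _) b))
    (h1 _ (permC_mem_monoN _) a), by rw [mul_smul, mul_smul, a, b, xi_smul_uu], ?_, ?_, ?_, ?_⟩ <;>
  · rw [mul_smul, mul_smul, xi_apply_tet0 _ _ (by decide), k1, k2, k3, k4]; ring

theorem rh4 (v : leechLattice) (hv : sqNorm (v : Vec) = 32) (a1 : (v : Vec) none = 0) (a2 : (v : Vec) (some 0) = 0)
    (h : 0 < cnt v 4) : RH H v := by
  have s1 := shape32 v.2 hv
  unfold HasShape at s1
  obtain ⟨i, j, a, b, c, d, e, f, g⟩ := pick_out2 (x := v) (k := 4) (by rw [a1, a2]; norm_num; omega)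
  obtain ⟨g, g', g0, g1, g2, -⟩ := boostH h1 h2 v a b c d e (c := -4) (d := -4) (f.trans (by decide)) (g.trans (by decide))
  exact ⟨g, g', g0, eq_uP (by rw [co0_norm, hv]) (by omega) (by omega)⟩

theorem rh2 (v : leechLattice) (hv : sqNorm (v : Vec) = 32) (h : (v : Vec) none = (v : Vec) (some 0))
    (a1 : |(v : Vec) none| = 2) : RH H v := by
  have s1 := shape32 v.2 hv
  unfold HasShape at s1
  have c1 := cnt_pos a1
  obtain ⟨i, j, a, b, c, d, e, f, g⟩ := pick_out2 (x := v) (k := 2) (by rw [← h, a1]; norm_num; omega)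
  obtain ⟨g, g', g0, g1, g2, g3, g4⟩ := boostH h1 h2 v a b c d e (c := 2) (d := -2) f (g.trans (by decide))
  refine .of g' g0 (rh4 h1 h2 _ (by rw [co0_norm, hv]) (by omega) (by omega) ?_)
  rcases (abs_eq (by norm_num)).1 a1 with h2 | h2
  · exact cnt_pos (i := some 2) (by rw [abs_eq (by norm_num)]; omega)
  · exact cnt_pos (i := some 1) (by rw [abs_eq (by norm_num)]; omega)

theorem gen2 (k : Co0) (hk : k • uu = uu) : k ∈ H := by
  suffices RH H (k • uP) by
    obtain ⟨g, a, b, c⟩ := this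
    have e : (g * k) • uu = uu := by rw [mul_smul, hk, b]
    exact (H.mul_mem_cancel_left a).1 (h1 _ (stab_e8_le none (show _ = _ by
      rw [show e8 none = uu + uP from Subtype.ext (by decide +kernel), co0_smul_add, e, mul_smul, c])) e)
  have hv := (co0_norm k uP).trans sqNorm_uP
  have h := co0_dot k uu uP
  rw [hk, dot_uu, dot_uu, show (uP : Vec) none - (uP : Vec) (some 0) = 0 from rfl] at h
  generalize k • uP = v at h hv
  replace h : (v : Vec) none = (v : Vec) (some 0) := by omega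
  have s1 := shape32 v.2 hv
  unfold HasShape at s1
  have c1 := cnt_two_le (x := v) rfl (by rw [h])
  obtain ⟨-, b1, -⟩ := two_coords32 v hv
  have b0 := abs_nonneg ((v : Vec) none)
  rcases (by omega : |(v : Vec) none| = 0 ∨ |(v : Vec) none| = 1 ∨ |(v : Vec) none| = 2 ∨
    |(v : Vec) none| = 3 ∨ |(v : Vec) none| = 4) with a1 | a1 | a1 | a1 | a1 <;> rw [a1] at c1
  · have h0 := abs_eq_zero.1 a1
    by_cases h4 : 0 < cnt v 4
    · exact rh4 h1 h2 v hv h0 (by omega) h4
    obtain ⟨i, j, a, b, c, d, e, f, g⟩ := pick_out2 (x := v) (k := 2) (by rw [← h, a1]; norm_num; omega)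
    obtain ⟨g, g', g0, g1, g2, -⟩ := boostH h1 h2 v a b c d e (c := -2) (d := -2) (f.trans (by decide)) (g.trans (by decide))
    exact .of g' g0 (rh2 h1 h2 _ (by rw [co0_norm, hv]) (by omega) (by rw [abs_eq (by norm_num)]; omega))
  · obtain ⟨i, a, b, c⟩ := pick_out1 (x := v) (k := 1) (by rw [← h, a1]; norm_num; omega)
    obtain ⟨j, a', b', c'⟩ := pick_out1 (x := v) (k := 3) (by rw [← h, a1]; norm_num; omega)
    obtain ⟨g, g', g0, g1, g2, -⟩ := boostH h1 h2 v a a' b b' (ne_of_abs c c' (by norm_num)) (c := -1) (d := -3)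
      (c.trans (by decide)) (c'.trans (by decide))
    exact .of g' g0 (rh2 h1 h2 _ (by rw [co0_norm, hv]) (by omega) (by rw [abs_eq (by norm_num)]; omega))
  · exact rh2 h1 h2 v hv h a1
  · omega
  · rcases (abs_eq (by norm_num)).1 a1 with a2 | a2
    · exact ⟨1, one_mem _, one_smul _ _, (one_smul _ _).trans (eq_uP hv a2 (by omega))⟩
    · obtain ⟨i, j, a, b, c, d, e, f, g⟩ := pick_out2 (x := v) (k := 0) (by rw [← h, a1]; norm_num; omega)
      obtain ⟨g, g', g0, g1, g2, g3, g4⟩ := boostH h1 h2 v a b c d e (c := 0) (d := 0) f g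
      exact .of g' g0 (rh4 h1 h2 _ (by rw [co0_norm, hv]) (by omega) (by omega)
        (cnt_pos (i := some 1) (by rw [abs_eq (by norm_num)]; omega)))

end

theorem all_dec {a b : ℕ} {p : ℕ → Prop} [DecidablePred p] (h : H14.all2 a b (fun y => decide (p y)) = true) :
    ∀ y < a * b, p y := fun y hy => of_decide_eq_true (H14.all2_iff.1 h y hy)

theorem coc0 : ∀ y < 64 * 64, H14.pc (4096 * y) % 2 = 1 → H14.allL H14.m22Gens (fun P =>
    decide (enc (H14.img 5 32 24 P (4096 * y) ^^^ 4096 * y) = H14.img 5 32 24 P (4096 * y) ^^^ 4096 * y) ||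
    decide (enc (H14.img 5 32 24 P (4096 * y) ^^^ 4096 * y ^^^ 8388609) =
      H14.img 5 32 24 P (4096 * y) ^^^ 4096 * y ^^^ 8388609)) = true →
    enc (4096 * y ^^^ 2 ^ 23) = 4096 * y ^^^ 2 ^ 23 ∨ enc (4096 * y ^^^ 2 ^ 0) = 4096 * y ^^^ 2 ^ 0 :=
  all_dec (by decide +kernel)

theorem coc {Y : Finset GolayPt} (h0 : Odd #Y) (h : ∀ σ ∈ Spor.M22, IsCw (symmDiff (σ • Y) Y) ∨
    IsCw (symmDiff (symmDiff (σ • Y) Y) (bits 8388609))) :
    IsCw (symmDiff Y {none}) ∨ IsCw (symmDiff Y {some 0}) := by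
  obtain ⟨m, hm, rfl⟩ := H14.exists_bits Y
  have hx : m % 4096 < 4096 := Nat.mod_lt _ (by norm_num)
  have hc : IsCw (bits (enc (m % 4096))) := H14.bits_enc_mem _
  have a1 : (m ^^^ enc (m % 4096)) % 4096 = 0 := by
    rw [show 4096 = 2 ^ 12 from rfl, Nat.xor_mod_two_pow, show 2 ^ 12 = 4096 from rfl, H14.enc_mod hx, Nat.xor_self]
  have a2 : m ^^^ enc (m % 4096) < 2 ^ 24 := Nat.xor_lt_two_pow hm (H14.enc_lt hx)
  obtain ⟨y, hy, e⟩ : ∃ y < 64 * 64, m ^^^ enc (m % 4096) = 4096 * y := ⟨(m ^^^ enc (m % 4096)) / 4096, by omega, by omega⟩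
  have e1 : bits m = symmDiff (bits (4096 * y)) (bits (enc (m % 4096))) := by
    rw [← e, H14.bits_xor, symmDiff_symmDiff_cancel_right]
  generalize bits (enc (m % 4096)) = c at hc e1
  refine (coc0 y hy (by
    have a := H14.card_symmDiff_add (bits (4096 * y)) c
    have b := hc.card_cases
    rw [← e1, H14.card_bits (4096 * y)] at a
    rw [Nat.odd_iff] at h0
    omega) (H14.allL_iff.2 fun P hP => ?_)).imp (fun k => ?_) fun k => ?_
  · obtain ⟨σ, hσ, rfl⟩ := H14.inG_m22Gens P hP
    have b := (isCw_smul hσ.1.1 hc).symmDiff hc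
    have b1 : symmDiff (σ • bits m) (bits m) = symmDiff (symmDiff (σ • bits (4096 * y)) (bits (4096 * y)))
        (symmDiff (σ • c) c) := by
      rw [e1, smul_finset_symmDiff, symmDiff_symmDiff_symmDiff_comm]
    have lt := Nat.xor_lt_two_pow (GE.img_pk_lt σ (4096 * y)) (by omega : 4096 * y < 2 ^ 24)
    rw [Bool.or_eq_true, decide_eq_true_iff, decide_eq_true_iff]
    refine (h σ hσ).imp (fun k => (H14.bits_mem_iff_enc lt).1 ?_) fun k =>
      (H14.bits_mem_iff_enc (Nat.xor_lt_two_pow lt (by norm_num))).1 ?_ <;> have := k.symmDiff b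
    · rwa [b1, symmDiff_symmDiff_cancel_right, H14.smul_bits, ← H14.bits_xor] at this
    · rwa [b1, symmDiff_right_comm _ (bits _), symmDiff_symmDiff_cancel_right, H14.smul_bits,
        ← H14.bits_xor, ← H14.bits_xor] at this
  all_goals
    have := (isCw_bits k).symmDiff hc
    rw [H14.bits_xor, symmDiff_right_comm, ← e1] at this
  exacts [H14.bits_two_pow none ▸ this, H14.bits_two_pow (some 0) ▸ this]

/-- congruence modulo `2Λ` and `uu` -/
def Cg (v v' : leechLattice) : Prop := ∃ w, v' = v + (w + w) ∨ v' = v + uu + (w + w)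

/-- minimal vectors with inner product `-16` -/
def T2 (v : leechLattice) : Prop := sqNorm (v : Vec) = 32 ∧ dotInt (uu : Vec) (v : Vec) = -16

theorem T2.smul {v : leechLattice} (h : T2 v) {k : Co0} (hk : k • uu = uu) : T2 (k • v) :=
  ⟨(co0_norm _ _).trans h.1, by rw [← h.2, ← co0_dot k uu v, hk]⟩

theorem half {x y : leechLattice} {c : Finset GolayPt} (hc : IsCw c)
    (h : ∀ i, ((x : Vec) i - (y : Vec) i) % 8 = if i ∈ c then 4 else 0) :
    ∃ w, x = y + (w + w) ∨ x = y + e8 none + (w + w) := by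
  have k : ∀ y : leechLattice, (∀ i, ((x : Vec) i - (y : Vec) i) % 8 = if i ∈ c then 4 else 0) →
      (∑ i, ((x : Vec) i - (y : Vec) i) / 2) % 8 = 0 → ∃ w, x = y + (w + w) := fun y h e =>
    ⟨⟨fun i => ((x : Vec) i - (y : Vec) i) / 2, mem_leech_of_even (fun i => by have := h i; split_ifs at this <;> omega) e
      (by convert hc; ext i; have := h i; split_ifs at this <;> simp [*] <;> omega)⟩, Subtype.ext (funext fun i => by
        have := h i
        simp only [AddSubgroup.coe_add, Pi.add_apply]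
        split_ifs at this <;> omega)⟩
  have s : (4 : ℤ) ∣ ∑ i, ((x : Vec) i - (y : Vec) i) / 2 - 2 * #c := by
    rw [card_eq_sum_ones, ← univ_inter c, ← sum_ite_mem, Nat.cast_sum, mul_sum, ← sum_sub_distrib]
    exact dvd_sum fun i _ => by have := h i; split_ifs at this ⊢ <;> push_cast <;> omega
  have := hc.card_cases
  by_cases e : (∑ i, ((x : Vec) i - (y : Vec) i) / 2) % 8 = 0
  · exact (k y h e).imp fun _ => Or.inl
  · have e1 : ∀ i, ((y + e8 none : leechLattice) : Vec) i = (y : Vec) i + if i = none then 8 else 0 := fun i => by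
      simp [e8_val, Pi.single_apply]
    refine (k (y + e8 none) (fun i => by have := h i; rw [e1]; split_ifs at this ⊢ <;> omega) ?_).imp fun _ => Or.inr
    rw [sum_congr rfl (g := fun i => ((x : Vec) i - (y : Vec) i) / 2 - if i = none then 4 else 0) fun i _ => by
      rw [e1]; split_ifs <;> omega, sum_sub_distrib, sum_ite_eq', if_pos (mem_univ _)]
    omega

theorem odd {W T : leechLattice → Prop} (w1 : ∀ {v} {k : Co0}, W v → k • uu = uu → W (k • v))
    (w2 : ∀ {v v'}, W v → W v' → (v : Vec) none % 2 = 1 → (∀ i, ((v' : Vec) i - (v : Vec) i) % 4 = 0) → Cg v v')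
    (w3 : ∀ {v v'}, W v → Cg v v' → W v') (t1 : ∀ {v} {k : Co0}, k • uu = uu → T (k • v) → T v)
    (t2 : ∀ {v v'}, Cg v' v → T v' → T v) (t3 : T (vI none)) {v : leechLattice} (hv : W v)
    (h0 : (16 : ℤ) ∣ dotInt (uu : Vec) (v : Vec)) (h1 : (v : Vec) none % 2 = 1) : T v := by
  have k0 : ∀ x, W x → (∀ i, (x : Vec) i % 4 = 1) → IsCw (symmDiff (univ.filter fun i => (x : Vec) i % 8 = 5) {none}) → T x :=
    fun x hx a c => by
    obtain ⟨w, e | e⟩ := half (x := x) (y := vI none) c fun i => by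
      have := a i
      simp only [vI, mem_symmDiff, mem_filter, mem_univ, mem_singleton, true_and]
      by_cases e : i = none <;> simp only [e, not_true, not_false_iff, and_false, and_true, false_or, true_and,
        false_and, or_false, if_true, if_false] at this ⊢ <;> split_ifs <;> omega
    · exact t2 ⟨w, .inl e⟩ t3
    exfalso
    have b := w3 hx (v' := vI none + e8 none) ⟨-w, .inl (by rw [e]; abel)⟩
    let y : leechLattice := vI (some 0) - w4 (some 1) (some 2) 1 rfl
    obtain ⟨k, k1, k2⟩ := trans_pair_48_16 uu (vI none + e8 none) uu y sqNorm_uu sqNorm_uu (by decide +kernel)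
      (by decide +kernel) (by decide +kernel) (by decide +kernel)
    obtain ⟨w, e | e⟩ := w2 b (k2 ▸ w1 b k1) (by decide +kernel) (by decide +kernel) <;>
      have e1 := congrArg (fun x : leechLattice => sqNorm (x : Vec)) (sub_eq_iff_eq_add'.2 e) <;>
      have e2 := min_norm w.2 (by rintro h; simp only [AddSubgroup.coe_add, h] at e1; revert e1; decide +kernel) <;>
      simp only [AddSubgroup.coe_add, sqNorm_add, dot_self] at e1
    · rw [show sqNorm _ = 64 by decide +kernel] at e1; omega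
    · rw [show sqNorm _ = 96 by decide +kernel] at e1; omega
  have k1 : ∀ x, W x → (∀ i, (x : Vec) i % 4 = 1) → T x := fun x hx a => by
    have s : (8 : ℤ) ∣ ∑ i, (x : Vec) i - 4 * #{i | (x : Vec) i % 8 = 5} - 24 := by
      rw [card_filter, Nat.cast_sum, mul_sum, show (24 : ℤ) = ∑ i : GolayPt, 1 by simp, ← sum_sub_distrib,
        ← sum_sub_distrib]
      exact dvd_sum fun i _ => by have := a i; split_ifs <;> push_cast <;> omega
    have s1 := ((parity_cases x.2).resolve_left fun e => by have := e.1 none; have := a none; omega).2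
    rcases coc (Y := univ.filter fun i => (x : Vec) i % 8 = 5) (Nat.odd_iff.2 (by omega)) fun σ hσ => by
      obtain ⟨w, e⟩ := w2 hx (w1 hx (permC_smul_uu (σ := ⟨σ, hσ.1.1⟩) hσ.1.2 hσ.2)) (by have := a none; omega)
        fun i => by rw [permC_apply]; have := a i; have := a (σ.symm i); dsimp only; omega
      refine e.imp (fun e => ?_) fun e => ?_ <;> convert isCw_mod4 w.2 2 <;> ext i <;>
        have e := congrArg (fun x : leechLattice => (x : Vec) i) e <;> have a1 := a i <;> have a2 := a (σ.symm i) <;>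
        simp only [permC_apply, AddSubgroup.coe_add, Pi.add_apply, uu_val] at e <;>
        simp only [mem_symmDiff, mem_perm_smul, mem_filter, mem_univ, true_and]
      · omega
      · rw [(by decide +kernel : ∀ i, i ∈ bits 8388609 ↔ (i = none ∨ i = some 0)) i]
        split_ifs at e with e1 e2
        · simp only [e1, true_or, not_true, and_false, false_or, true_and] at *; omega
        · simp only [e2, or_true, not_true, and_false, false_or, true_and] at *; omega
        · simp only [e1, e2, or_self, not_false_iff, and_true, false_and, or_false]; omega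
      with c | c
    · exact k0 x hx a c
    · refine t2 (v' := x + uu) ⟨-uu, .inr (by abel)⟩ (k0 _ (w3 hx ⟨0, .inr (by simp)⟩) (fun i => ?_) ?_)
      · have := a i
        simp only [AddSubgroup.coe_add, Pi.add_apply, uu_val]
        split_ifs <;> omega
      · refine Eq.mp (congrArg IsCw (Finset.ext fun i => ?_)) c
        have := a i
        simp only [mem_symmDiff, mem_filter, mem_univ, mem_singleton]
        simp only [AddSubgroup.coe_add, Pi.add_apply, uu_val]
        by_cases e1 : i = none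
        · simp [e1] at this ⊢; omega
        by_cases e2 : i = some 0
        · simp [e2] at this ⊢; omega
        · simp [e1, e2]
  rw [dot_uu] at h0
  have a := ((parity_cases v.2).resolve_left fun e => by have := e.1 none; omega).1
  by_cases e : (v : Vec) none % 4 = 1
  · have hc := isCw_mod4 v.2 3
    have b := signC_smul_uu hc (by simp; omega) (by simp; omega)
    refine t1 b (k1 _ (w1 hv b) fun i => ?_)
    have := a i
    simp only [signC_apply, mem_filter, mem_univ, true_and]
    split_ifs <;> omega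
  · have hc := isCw_mod4 v.2 1
    have b := signC_smul_uu hc (by simp; omega) (by simp; omega)
    refine t1 b (t2 (v' := -(signC _ hc • v)) ⟨signC _ hc • v, .inl (by abel)⟩
      (k1 _ (w3 (w1 hv b) ⟨-(signC _ hc • v), .inl (by abel)⟩) fun i => ?_))
    have := a i
    simp only [AddSubgroup.coe_neg, Pi.neg_apply, signC_apply, mem_filter, mem_univ, true_and]
    split_ifs <;> omega

def DJ (v : Vec) (j : GolayPt) : Prop := j ≠ none ∧ j ≠ some 0 ∧ |v j| = 4 ∧ (∀ i, v i % 4 = 0) ∧
  ∀ l, l ≠ none → l ≠ some 0 → l ≠ j → v l = 0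

theorem T2.cases {v : leechLattice} (h : T2 v) : (v : Vec) none % 2 = 1 ∨ (∃ j, DJ v j) ∨
    ((v : Vec) none = -2 ∧ (v : Vec) (some 0) = 2) := by
  obtain ⟨hn, h⟩ := h
  rw [dot_uu] at h
  rcases shape32 v.2 hn with s | s | s <;> have a := s.abs_cases (by omega) <;> have a1 := a none <;>
    have a2 := a (some 0) <;> simp only [abs_eq (show (0 : ℤ) ≤ 1 by norm_num), abs_eq (show (0 : ℤ) ≤ 2 by norm_num),
      abs_eq (show (0 : ℤ) ≤ 3 by norm_num), abs_eq (show (0 : ℤ) ≤ 4 by norm_num), abs_eq_zero] at a a1 a2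
  · obtain ⟨j, j1, j2, j3⟩ := pick_out1 (x := v) (k := 4) (by
      simp only [s.2.2.2.2.1, abs_eq (show (0 : ℤ) ≤ 4 by norm_num)]; split_ifs <;> omega)
    refine .inr (.inl ⟨j, j1.symm, j2.symm, j3, fun i => by have := a i; omega, fun l l1 l2 l3 => by_contra fun l4 => ?_⟩)
    obtain ⟨i, i1, i2, i3⟩ : ∃ i, i ≠ j ∧ i ≠ l ∧ |(v : Vec) i| = 4 := by
      rcases (by omega : (v : Vec) none = -4 ∨ (v : Vec) (some 0) = 4) with e | e
      exacts [⟨none, j1, l1.symm, by rw [e]; rfl⟩, ⟨some 0, j2, l2.symm, by rw [e]; rfl⟩]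
    have a3 : |(v : Vec) l| = 4 := by have := a l; rw [abs_eq (by norm_num)]; omega
    have a4 : #({i, j, l} : Finset GolayPt) ≤ cnt v 4 := card_le_card (by simp [insert_subset_iff, *])
    rw [card_eq_three.2 ⟨i, j, l, i1, i2, l3.symm, rfl⟩, s.2.2.2.2.1] at a4
    omega
  · omega
  · omega

theorem T2.dj {v : leechLattice} (h : T2 v) (k : ∀ i j, i ≠ j → (16 : ℤ) ∣ dotInt (v : Vec) (w4 i j 1 rfl : Vec)) :
    ∃ j, DJ v j := by
  simp only [dot_w4] at k
  rcases h.cases with e | e | e
  · have := k none (some 0) (by decide); have := k none (some 1) (by decide); have := k (some 0) (some 1) (by decide)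
    omega
  · exact e
  · rcases shape32 v.2 h.1 with s | s | s
    · exact absurd (by rw [e.1]; rfl) (ne_of_cnt_eq_zero s.2.2.1 none)
    · obtain ⟨i, hi⟩ := exists_of_cnt_pos (x := v) (k := 0) (by rw [s.1]; norm_num)
      have := k i none (by rintro rfl; simp [e.1] at hi)
      rw [abs_eq_zero] at hi
      omega
    · exact absurd (by rw [e.1]; rfl) (ne_of_cnt_eq_zero s.2.2.1 none)

def vO8 : leechLattice := ⟨fun i => if i = none ∨ i = some 22 then -2 else if i ∈ bits 12656663 then 2 else 0, by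
  decide +kernel⟩

set_option synthInstance.maxSize 2000 in
theorem oct0 : ∀ p q r s t : Bool, ∃ y ∈ [0, 258, 36, 294, 312, 58, 284, 30, 8, 266, 44,
    302, 304, 50, 276, 22, 264, 10, 300, 46, 48, 306, 20, 278, 256, 2, 292, 38, 56, 314, 28, 286],
    none ∉ bits (enc y) ∧ some 0 ∉ bits (enc y) ∧ (some 1 ∈ bits (enc y) ↔ p) ∧ (some 2 ∈ bits (enc y) ↔ q) ∧
    (some 4 ∈ bits (enc y) ↔ r) ∧ (some 13 ∈ bits (enc y) ↔ s) ∧ (some 16 ∈ bits (enc y) ↔ t) := by decide +kernel

theorem oct {v : leechLattice} (hn : sqNorm (v : Vec) = 32) (h1 : (v : Vec) none = -2) (h2 : (v : Vec) (some 0) = 2) :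
    ∃ k ∈ monoN, k • uu = uu ∧ k • v = vO8 := by
  have s : HasShape v 16 0 8 0 0 0 0 0 0 := ((shape32 v.2 hn).resolve_left fun s =>
    ne_of_cnt_eq_zero s.2.2.1 none (by rw [h1]; rfl)).resolve_right fun s => ne_of_cnt_eq_zero s.2.2.1 none (by rw [h1]; rfl)
  obtain ⟨a, b, a1, b1, a2, b2, ab, a3, b3⟩ := pick_out2 (x := v) (k := 2) (by rw [s.2.2.1]; split_ifs <;> omega)
  obtain ⟨c, c1, c3⟩ := exists_of_card_lt_cnt (x := v) (k := 2) {none, some 0, a, b} (by
    rw [s.2.2.1]; exact lt_of_le_of_lt card_le_four (by norm_num))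
  simp only [Finset.mem_insert, mem_singleton, not_or] at c1
  obtain ⟨σ, hσ, e⟩ := H14.m24_exists_apply_eq le_rfl ![none, some 0, a, b, c] ![none, some 0, some 1, some 2, some 4]
    (by
      have := a1.symm; have := b1.symm; have := a2.symm; have := b2.symm; have := ab.symm
      obtain ⟨c1, c2, c4, c5⟩ := c1
      have := Ne.symm c1; have := Ne.symm c2; have := Ne.symm c4; have := Ne.symm c5
      intro i j; fin_cases i <;> fin_cases j <;> simp [*]) (by decide)
  have u1 := permC_smul_uu (σ := ⟨σ, hσ⟩) (e 0) (e 1)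
  have n1 := (co0_norm (permC ⟨σ, hσ⟩) v).trans hn
  have k : ∀ i : Fin 5, ((permC ⟨σ, hσ⟩ • v : leechLattice) : Vec) (![none, some 0, some 1, some 2, some 4] i) =
    (v : Vec) (![none, some 0, a, b, c] i) := fun i => by rw [← e i]; exact permC_apply' ⟨σ, hσ⟩ v _
  have k0 := (k 0).trans h1
  have k1 := (k 1).trans h2
  have k2 := (congrArg abs (k 2)).trans a3
  have k3 := (congrArg abs (k 3)).trans b3
  have k4 := (congrArg abs (k 4)).trans c3
  suffices ∃ c hc, none ∉ c ∧ some 0 ∉ c ∧ signC c hc • permC ⟨σ, hσ⟩ • v = vO8 by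
    obtain ⟨c, hc, d1, d2, d3⟩ := this
    exact ⟨_, mem_monoN.2 ⟨_, c, hc, rfl⟩, by rw [mul_smul, u1, signC_smul_uu hc d1 d2], by rw [mul_smul, d3]⟩
  generalize permC ⟨σ, hσ⟩ • v = x at n1 k0 k1 k2 k3 k4
  simp only [Matrix.cons_val] at k0 k1 k2 k3 k4
  have s : HasShape x 16 0 8 0 0 0 0 0 0 := ((shape32 x.2 n1).resolve_left fun s =>
    ne_of_cnt_eq_zero s.2.2.1 none (by rw [k0]; rfl)).resolve_right fun s => ne_of_cnt_eq_zero s.2.2.1 none (by rw [k0]; rfl)
  have a := s.abs_cases (by omega)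
  have hO : IsCw (bits 12656663) := isCw_bits (by decide +kernel)
  have f : (univ.filter fun i => (x : Vec) i % 4 = 2 % 4) = univ.filter fun i => |(x : Vec) i| = 2 :=
    filter_congr fun i _ => by have := a i; simp only [abs_eq (show (0 : ℤ) ≤ 2 by norm_num), abs_eq_zero] at *; omega
  have f1 : (univ.filter fun i => |(x : Vec) i| = 2) = bits 12656663 := by
    have g1 := (f ▸ isCw_mod4 x.2 2).symmDiff hO
    have g2 := H14.card_symmDiff_add (univ.filter fun i => |(x : Vec) i| = 2) (bits 12656663)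
    have g3 : #({none, some 0, some 1, some 2, some 4} : Finset GolayPt) ≤
        #((univ.filter fun i => |(x : Vec) i| = 2) ∩ bits 12656663) := card_le_card (by
      simp only [insert_subset_iff, singleton_subset_iff, mem_inter, mem_filter, mem_univ, k0, k1, k2, k3, k4]
      decide +kernel)
    have g4 := g1.card_cases
    rw [show #(univ.filter fun i => |(x : Vec) i| = 2) = 8 from s.2.2.1, show #(bits 12656663) = 8 by decide +kernel] at g2
    rw [show #({none, some 0, some 1, some 2, some 4} : Finset GolayPt) = 5 by decide] at g3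
    exact symmDiff_eq_bot.1 (card_eq_zero.1 (by omega))
  have f2 : ∀ i, if i ∈ bits 12656663 then |(x : Vec) i| = 2 else (x : Vec) i = 0 := fun i => by
    have := a i
    simp only [← f1, mem_filter, mem_univ, true_and, ← abs_eq_zero (a := (x : Vec) i)]
    split_ifs <;> omega
  obtain ⟨y, -, y1⟩ := oct0
    ((x : Vec) (some 1) < 0) ((x : Vec) (some 2) < 0) ((x : Vec) (some 4) < 0) ((x : Vec) (some 13) < 0)
    ((x : Vec) (some 16) < 0)
  have hy : IsCw (bits (enc y)) := H14.bits_enc_mem y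
  refine ⟨_, hy, y1.1, y1.2.1, ?_⟩
  have m : ∀ i, i ≠ some 22 → ((signC _ hy • x : leechLattice) : Vec) i = (vO8 : Vec) i := fun i hi => by
    have g := f2 i
    rw [signC_apply]
    by_cases e : i ∈ bits 12656663
    · rw [if_pos e, abs_eq (by norm_num)] at g
      rcases (by decide +kernel : ∀ i ∈ bits 12656663, i ≠ some 22 → i = none ∨ i = some 0 ∨ i = some 1 ∨ i = some 2 ∨
        i = some 4 ∨ i = some 13 ∨ i = some 16) i e hi with rfl | rfl | rfl | rfl | rfl | rfl | rfl <;>
        simp only [y1, if_false, decide_eq_true_eq, k0, k1] <;> first | rfl | (change _ = 2; split_ifs <;> omega)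
    · rw [if_neg e] at g
      rw [g, neg_zero, ite_self]
      exact ((if_neg (by rintro (rfl | rfl) <;> exact e (by decide +kernel))).trans (if_neg e)).symm
  refine Subtype.ext (funext fun i => ?_)
  by_cases hi : i = some 22
  swap
  · exact m i hi
  have g := f2 (some 22)
  rw [if_pos (by decide +kernel), abs_eq (by norm_num)] at g
  have p := ((parity_cases (signC _ hy • x - vO8).2).resolve_right fun e => by
    have := e.1 none
    rw [AddSubgroup.coe_sub, Pi.sub_apply, m _ (by decide)] at this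
    omega).2
  rw [sum_eq_single (some 22) (fun i _ hi => by rw [AddSubgroup.coe_sub, Pi.sub_apply, m i hi, sub_self]) (by simp),
    AddSubgroup.coe_sub, Pi.sub_apply] at p
  rw [hi]
  rw [signC_apply, show (vO8 : Vec) (some 22) = -2 from rfl] at p ⊢
  split_ifs at p ⊢ <;> omega

theorem card_T2 : {v | T2 v}.ncard = 4600 :=
  (ncard_dot_uu uu sqNorm_uu 32 (-4)).trans ((ncard_diff' 8 (by norm_num) (-4)).trans (by decide +kernel))

theorem sep {v x : leechLattice} (h0 : (16 : ℤ) ∣ dotInt (uu : Vec) (v : Vec))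
    (k1 : ∀ w : leechLattice, sqNorm (w : Vec) = 32 → dotInt (uu : Vec) (w : Vec) = 0 →
      (16 : ℤ) ∣ dotInt (v : Vec) (w : Vec)) (hx : (16 : ℤ) ∣ dotInt (uu : Vec) (x : Vec)) :
    (16 : ℤ) ∣ dotInt (v : Vec) (x : Vec) := by
  have k2 : ∀ {a}, a ≠ none → a ≠ some 0 → (16 : ℤ) ∣ dotInt (v : Vec) (vI a) := fun a b =>
    k1 _ (vI_spec _ a b).1 (vI_spec _ a b).2
  have k3 := @core_perp v h0 fun k _ ku a a1 a2 => dvd_sub (k1 _ (by rw [co0_norm, (vI_spec _ a1 a2).1])
    (by rw [← (vI_spec _ a1 a2).2, ← co0_dot k uu (vI a), ku])) (k2 a1 a2)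
  rcases Int.emod_two_eq_zero_or_one ((x : Vec) none) with e | e
  · exact k3 e hx
  · have := k3 (x := x - vI (some 1)) (by
      rw [AddSubgroup.coe_sub, Pi.sub_apply, show (vI (some 1) : Vec) none = 1 from rfl]; omega) (by
      rw [AddSubgroup.coe_sub, dot_sub_right]; exact dvd_sub hx (by decide +kernel))
    rw [AddSubgroup.coe_sub, dot_sub_right] at this
    exact (dvd_sub_left (k2 (by decide) (by decide))).1 this

theorem perf {S : Type*} [Group S] {T : Subgroup S} (h : IsSimpleGroup T) (h1 : ¬ (Nat.card T).Prime) :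
    ⁅T, T⁆ = T := by
  rw [← map_subtype_commutator, (IsSimpleGroup.eq_bot_or_eq_top_of_normal (commutator T) inferInstance).resolve_left
    fun e => ?_, ← MonoidHom.range_eq_map, range_subtype]
  let _ : CommGroup T := { (inferInstance : Group T) with
    mul_comm := fun a b => commutatorElement_eq_one_iff_mul_comm.1
      (Subgroup.mem_bot.1 (e ▸ commutator_mem_commutator (mem_top a) (mem_top b))) }
  exact h1 IsSimpleGroup.prime_card

theorem perf_Co2 : ⁅stabilizer Co0 uu, stabilizer Co0 uu⁆ = stabilizer Co0 uu :=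
  perf (simple_Co2 uu sqNorm_uu) (by rw [card_stab32 uu sqNorm_uu]; norm_num)

theorem perf_U6 {v : leechLattice} (h : T2 v) : ⁅stabilizer Co0 uu ⊓ stabilizer Co0 v,
    stabilizer Co0 uu ⊓ stabilizer Co0 v⁆ = stabilizer Co0 uu ⊓ stabilizer Co0 v := by
  have := Fintype.ofFinite (GaloisField 2 2)
  have hF : Fintype.card (GaloisField 2 2) = 4 := by rw [← Nat.card_eq_fintype_card, GaloisField.card 2 2 (by norm_num)]; rfl
  have := Fact.mk (show Fintype.card (GaloisField 2 2) = 2 ^ 2 from hF)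
  obtain ⟨e⟩ := S1577.result uu v sqNorm_uu h.1 h.2 _ hF
  have := H10.psu_isSimpleGroup (F := GaloisField 2 2) (n := 6) (q := 2) (by norm_num) (by norm_num)
  have c := card_stab_inf uu v
  rw [orbit_stab_eq h.1 h.2 fun w a b => trans_pair_m16 uu v uu w sqNorm_uu sqNorm_uu h.1 a h.2 b,
    show Set.ncard {w : leechLattice | _ ∧ _} = 4600 from card_T2, card_stab32 uu sqNorm_uu] at c
  exact perf e.isSimpleGroup (by rw [show Nat.card _ = 9196830720 by omega]; norm_num)

/-- the permutations fixing `∞` and `0` -/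
abbrev T22 : Subgroup M24 := stabilizer M24 (none : GolayPt) ⊓ stabilizer M24 (some 0 : GolayPt)

theorem perf_22 : ⁅T22, T22⁆ = T22 := by
  have e := subgroupOfEquivOfLe (show Spor.M22 ≤ M24 from fun _ h => h.1.1)
  rw [show Spor.M22.subgroupOf M24 = T22 from Subgroup.ext fun σ => ⟨fun h => ⟨h.1.2, h.2⟩, fun h => ⟨⟨σ.2, h.1⟩, h.2⟩⟩] at e
  have := H14.simple_M22
  exact perf e.isSimpleGroup (by rw [Nat.card_congr e.toEquiv, H14.card_M22]; norm_num)

theorem perf_21 : ⁅T22 ⊓ stabilizer M24 (some 1 : GolayPt), T22 ⊓ stabilizer M24 (some 1 : GolayPt)⁆ =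
    T22 ⊓ stabilizer M24 (some 1 : GolayPt) := by
  have e := subgroupOfEquivOfLe (show H14.M21 ≤ M24 from fun _ h => h.1.1.1)
  rw [show H14.M21.subgroupOf M24 = T22 ⊓ stabilizer M24 (some 1 : GolayPt) from Subgroup.ext fun σ =>
    ⟨fun h => ⟨⟨h.1.1.2, h.1.2⟩, h.2⟩, fun h => ⟨⟨⟨σ.2, h.1.1⟩, h.1.2⟩, h.2⟩⟩] at e
  have := Fintype.ofFinite (GaloisField 2 2)
  obtain ⟨f⟩ := S0380.result none (some 0) (some 1) (by decide) (by decide) (by decide) (GaloisField 2 2)
    (by rw [← Nat.card_eq_fintype_card, GaloisField.card 2 2 (by norm_num)]; rfl)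
  have := S0249.result (F := GaloisField 2 2) 3 le_rfl
  exact perf f.isSimpleGroup (by rw [Nat.card_congr e.toEquiv, H14.card_M21]; norm_num)

end Cfsg.Agent.H51.BR
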