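import Cfsg.Agent.H51.ReeB
import Cfsg.Agent.H8.SelfNormSL2
import Cfsg.Agent.S0222
import Cfsg.Agent.S0223

/-!
Maximality of the involution centralizer in groups of Ree type.
-/

set_option autoImplicit false
set_option linter.unusedSectionVars false

namespace Cfsg.Agent.H51

open Cfsg.Agent.H49 Subgroup

variable {G : Type*} [Group G] [Finite G]

theorem not_three_dvd_of_isSuzuki (h : IsSuzuki G) : ¬ 3 ∣ Nat.card G := by
  obtain ⟨-, m, -, h⟩ := h
  rw [h]
  have h1 : 2 ^ (2 * m + 1) % 3 = 2 := by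
    rw [pow_succ, pow_mul, Nat.mul_mod, Nat.pow_mod]
    norm_num
  generalize 2 ^ (2 * m + 1) = q at h1
  obtain ⟨k, rfl⟩ : ∃ k, q = 3 * k + 2 := ⟨q / 3, by omega⟩
  intro hd
  rcases (Nat.Prime.dvd_mul Nat.prime_three).1 hd with h2 | h2
  · rcases (Nat.Prime.dvd_mul Nat.prime_three).1 h2 with h3 | h3
    · have := Nat.prime_three.dvd_of_dvd_pow h3
      omega
    · have : (3 * k + 2) ^ 2 + 1 = 3 * (3 * k ^ 2 + 4 * k + 1) + 2 := by ring
      omega
  · omega

theorem exists_card_eq_four_pow {F : Type*} [Field F] [Fintype F] {q : ℕ}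
    (hF : Fintype.card F = q ^ 2) (hq : Even q) : ∃ n, q = 2 ^ n ∧ Fintype.card F = 4 ^ n := by
  obtain ⟨r, hr⟩ := CharP.exists F
  obtain ⟨k, hk, hc⟩ := FiniteField.card F r
  have h1 : 2 ∣ r ^ (k : ℕ) := by
    rw [← hc, hF]; exact (even_iff_two_dvd.1 hq).trans (dvd_pow_self q two_ne_zero)
  obtain rfl := (Nat.prime_dvd_prime_iff_eq Nat.prime_two hk).1 (Nat.prime_two.dvd_of_dvd_pow h1)
  obtain ⟨n, -, rfl⟩ := (Nat.dvd_prime_pow Nat.prime_two).1
    (show q ∣ 2 ^ (k : ℕ) by rw [← hc, hF]; exact dvd_pow_self q two_ne_zero)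
  exact ⟨n, rfl, by rw [hF, ← pow_mul, mul_comm, pow_mul]; rfl⟩

theorem abC_psl2 {F : Type*} [Field F] [CharP F 2] :
    H8.AbC (Matrix.ProjectiveSpecialLinearGroup (Fin 2) F) :=
  have h2 : (2 : F) = 0 := CharTwo.two_eq_zero
  (H8.sl2e_abC h2).of_equiv (MulEquiv.ofBijective (H66.toPSL F)
    ⟨H66.toPSL_injective h2, H66.toPSL_surjective⟩).symm

namespace ReeLike

variable {t : G} {K : Subgroup G} (h : ReeLike t K)
include h

theorem not_stronglyEmbedded [IsSimpleGroup G] (H : Subgroup G) : ¬ IsStronglyEmbedded H := by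
  intro hH
  rcases S0222.result (by
    by_contra hc
    push Not at hc
    exact h.na ⟨⟨fun a b => Subtype.ext (hc a b)⟩⟩) H hH with
    ⟨F, _, _, _, -, ⟨e⟩⟩ | h1 | ⟨F, _, _, q, hF, hq, -, ⟨e⟩⟩
  · exact h.na ⟨⟨fun a b => Subtype.ext (abC_psl2.of_equiv e t a b h.ord (h.comm a.2).symm
      (h.comm b.2).symm)⟩⟩
  · exact not_three_dvd_of_isSuzuki h1 h.three_dvd
  · obtain ⟨n, rfl, hF'⟩ := exists_card_eq_four_pow hF hq
    obtain ⟨S, htS⟩ := h.exists_sylow
    have h1 := ((closedTwo_psu3 hF').of_injective e.toMonoidHom e.injective).norm_le S (zpowers t)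
      (zpowers_le.2 htS) (fun h2 => ne_one_of_ord h.ord (zpowers_eq_bot.1 h2))
    have hV := h.klein S htS
    rcases eq_bot_or_eq_of_simple h.simple (X := (S : Subgroup G) ⊓ K) inf_le_right
      (norm_inf ((cent_symm h.t_cent).trans ((cent_le_norm _).trans h1)) le_normalizer)
      with h2 | h2
    · have := hV.card_four
      rw [h2, card_bot] at this
      exact absurd this (by decide)
    · exact h.na ⟨⟨fun a b => Subtype.ext (H8.klein_comm hV (h2.ge a.2) (h2.ge b.2))⟩⟩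

theorem isCoatom [IsSimpleGroup G] (hk : KillOdd K) : IsCoatom 𝒞[t] := by
  refine ⟨fun h1 => ?_, fun H hH => ?_⟩
  · obtain ⟨S, htS⟩ := h.exists_sylow
    obtain ⟨a, ha, ha2⟩ := H8.exists_involution_of_klein (h.klein S htS)
    obtain ⟨g, rfl⟩ := h.all_conj ha2
    rw [mem_cent1.1 (h1.ge (mem_top g)), mul_inv_cancel_right] at ha
    exact h.not_mem ha.2
  · by_contra hne
    rcases h.fuse hH.le with h1 | h1
    · exact hH.ne' (h.eq_of_isolated hk hH.le h1)
    · refine h.not_stronglyEmbedded H ((S0223.result H hne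
        (h.even.trans_dvd (card_dvd_of_le (h.le.trans hH.le)))).2
        ⟨fun u hu hu2 => ?_, fun u hu s hs hu2 hs2 _ => ?_⟩)
      · obtain ⟨g, hg, rfl⟩ := h1 u hu hu2
        rw [← cj_cent1]
        exact cj_le_of_mem hH.le hg
      · obtain ⟨g, hg, rfl⟩ := h1 u hu hu2
        obtain ⟨k, hk, rfl⟩ := h1 s hs hs2
        exact ⟨k * g⁻¹, mul_mem hk (inv_mem hg), by group⟩

end ReeLike

theorem reeLike_of_psl2 (hab : AbTwo G) {t : G} (ht : orderOf t = 2) {K : Subgroup G}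
    (hK : IsInternalDirectProduct (zpowers t) K 𝒞[t]) {F : Type*} [Field F] [Fintype F]
    (hq : Fintype.card F % 8 = 3 ∨ Fintype.card F % 8 = 5) (h3 : 3 < Fintype.card F)
    (e : K ≃* Matrix.ProjectiveSpecialLinearGroup (Fin 2) F) : ReeLike t K := by
  have hs := Matrix.ProjectiveSpecialLinearGroup.rank_two_simple (F := F)
    (by rw [Nat.card_eq_fintype_card]; omega)
  have h2 := H9.gcd_mul_card_psl_two (F := F)
  rw [← Nat.card_congr e.toEquiv, Nat.gcd_eq_left (by omega)] at h2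
  obtain ⟨k, hk⟩ : ∃ k, Fintype.card F ^ 2 - 1 = 8 * (2 * k + 1) := by
    obtain ⟨m, hm⟩ : ∃ m, Fintype.card F = 8 * m + 3 ∨ Fintype.card F = 8 * m + 5 :=
      ⟨Fintype.card F / 8, by omega⟩
    rcases hm with hm | hm
    · exact ⟨4 * m ^ 2 + 3 * m, by rw [hm]; exact Nat.sub_eq_of_eq_add (by ring)⟩
    · exact ⟨4 * m ^ 2 + 5 * m + 1, by rw [hm]; exact Nat.sub_eq_of_eq_add (by ring)⟩
  have h4 : Nat.card K = 4 * (Fintype.card F * (2 * k + 1)) := by
    rw [hk] at h2; linarith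
  have h5 : Odd (Fintype.card F * (2 * k + 1)) :=
    (Nat.odd_iff.2 (by omega)).mul (odd_two_mul_add_one k)
  rw [Nat.odd_iff] at h5
  refine ⟨hab, ht, hK, e.isSimpleGroup, fun hc => ?_, by rw [Nat.even_iff]; omega, by omega⟩
  have := e.isSimpleGroup
  have h6 := (Group.is_simple_iff_prime_card (α := K)).1 this
  rw [h4] at h6
  exact Nat.not_prime_mul (by decide) (by nlinarith) h6

end Cfsg.Agent.H51
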